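import Mathlib.AlgebraicGeometry.IdealSheaf.Subscheme
import Mathlib.AlgebraicGeometry.Morphisms.QuasiCompact
import Mathlib.AlgebraicGeometry.Properties

/-!
# Scheme-theoretic image of a morphism with reduced source

For `π : X ⟶ Y` with `X` reduced (no quasi-compactness), the kernel ideal sheaf is computed on
affine opens by kernels, and is the vanishing ideal of the closure of the image.
-/

universe u

open AlgebraicGeometry CategoryTheory TopologicalSpace

namespace GrothLib.SchImage

variable {X Y : Scheme.{u}}

/-- The closed set `closure (range π)`. -/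
def closureRange (π : X ⟶ Y) : Closeds Y := ⟨closure (Set.range π), isClosed_closure⟩

lemma vanishingIdeal_closureRange_ideal [IsReduced X] (π : X ⟶ Y) (U : Y.affineOpens) :
    (Scheme.IdealSheafData.vanishingIdeal (closureRange π)).ideal U = RingHom.ker (π.app U).hom := by
  ext s
  rw [Scheme.IdealSheafData.vanishingIdeal_ideal, PrimeSpectrum.mem_vanishingIdeal, RingHom.mem_ker]
  have key : (∀ p : PrimeSpectrum Γ(Y, U), p ∈ U.2.fromSpec ⁻¹' (closureRange π : Set Y) → s ∈ p.asIdeal)
      ↔ Disjoint (Y.basicOpen s : Set Y) (closure (Set.range π)) := by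
    rw [Set.disjoint_left]
    constructor
    · intro h y hy hy'
      obtain ⟨p, hp⟩ : y ∈ Set.range U.2.fromSpec := by
        rw [U.2.range_fromSpec]; exact Y.basicOpen_le s hy
      have h2 : p ∈ PrimeSpectrum.basicOpen s := by
        rw [← U.2.fromSpec_preimage_basicOpen s]
        show U.2.fromSpec p ∈ Y.basicOpen s
        rw [hp]; exact hy
      exact h2 (h p (by show U.2.fromSpec p ∈ closure (Set.range π); rw [hp]; exact hy'))
    · intro h p hp
      by_contra hs
      have h2 : p ∈ U.2.fromSpec ⁻¹ᵁ Y.basicOpen s := by
        rw [U.2.fromSpec_preimage_basicOpen s]; exact hs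
      exact h h2 hp
  refine key.trans ?_
  constructor
  · intro h
    rw [← basicOpen_eq_bot_iff, ← Scheme.preimage_basicOpen]
    exact Opens.ext (Set.eq_empty_of_forall_notMem fun x hx =>
      Set.disjoint_left.mp h hx (subset_closure ⟨x, rfl⟩))
  · intro h
    refine Disjoint.closure_right ?_ (Y.basicOpen s).isOpen
    rw [Set.disjoint_left]
    rintro y hy ⟨x, rfl⟩
    have h2 : x ∈ π ⁻¹ᵁ Y.basicOpen s := hy
    rw [Scheme.preimage_basicOpen, h, Scheme.basicOpen_zero] at h2
    exact h2

/-- With reduced source, the kernel ideal sheaf is the vanishing ideal of the closure of the image. -/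
theorem ker_eq_vanishingIdeal [IsReduced X] (π : X ⟶ Y) :
    π.ker = Scheme.IdealSheafData.vanishingIdeal (closureRange π) := by
  conv_rhs => rw [← Scheme.IdealSheafData.ofIdeals_ideal
    (Scheme.IdealSheafData.vanishingIdeal (closureRange π))]
  unfold Scheme.Hom.ker
  congr 1
  funext U
  exact (vanishingIdeal_closureRange_ideal π U).symm

theorem ideal_ker [IsReduced X] (π : X ⟶ Y) (U : Y.affineOpens) :
    π.ker.ideal U = RingHom.ker (π.app U).hom := by
  rw [ker_eq_vanishingIdeal, vanishingIdeal_closureRange_ideal]

theorem support_ker [IsReduced X] (π : X ⟶ Y) :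
    (π.ker.support : Set Y) = closure (Set.range π) := by
  rw [ker_eq_vanishingIdeal, Scheme.IdealSheafData.coe_support_vanishingIdeal]
  rfl

end GrothLib.SchImage
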